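import Mathlib
import Cfsg.Agent.Lib.SL2.Partition

set_option autoImplicit false

/-!
Products of two conjugates in `SL(2, F)` and `PSL(2, F)` through traces.
-/

namespace Cfsg.Agent.Lib.SL2Products

open Cfsg.Agent.Lib.SL2 Polynomial

variable {F : Type*} [Field F]

theorem exists_conj_entry_ne_zero {g : SLtwo F} (hg : g ∉ Subgroup.center (SLtwo F)) :
    ∃ k : SLtwo F, (k * g * k⁻¹) 1 0 ≠ 0 := by
  by_cases h10 : g 1 0 = 0
  · by_cases h01 : g 0 1 = 0
    · have hne : g 0 0 ≠ g 1 1 := fun h => hg ((isScalarMat_iff_mem_center g).1 ⟨h01, h10, h⟩)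
      refine ⟨lower 1, ?_⟩
      have e : ((lower 1 * g * (lower 1)⁻¹ : SLtwo F)) 1 0 = g 0 0 - g 1 1 := by
        simp only [lower, mul_00, mul_01, mul_10, mul_11, inv_00, inv_01, inv_10, inv_11]
        simp [h01, h10]
        try ring
      rw [e]
      exact sub_ne_zero.2 hne
    · refine ⟨weyl, ?_⟩
      have e : ((weyl * g * weyl⁻¹ : SLtwo F)) 1 0 = -g 0 1 := by
        simp only [mul_00, mul_01, mul_10, mul_11, inv_00, inv_01, inv_10, inv_11]
        simp [weyl, h10]
      rw [e]
      exact neg_ne_zero.2 h01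
  · exact ⟨1, by simpa using h10⟩

/-- a solution of the conic gives a factorisation of the companion element -/
theorem exists_factor_comp {s t a b : F} (h : a ^ 2 - t * a + b ^ 2 + t * b - s * a * b + 1 = 0) :
    ∃ A B : SLtwo F, tr A = t ∧ tr B = t ∧ A * B = comp s 1 := by
  refine ⟨ofEntries a b (t + b - a * s) (t - a) (by linear_combination -h),
    (ofEntries a b (t + b - a * s) (t - a) (by linear_combination -h))⁻¹ * comp s 1, ?_, ?_, ?_⟩
  · simp [tr]
  · simp only [tr, mul_00, mul_11, inv_00, inv_01, inv_10, inv_11]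
    simp
    try ring
  · rw [mul_inv_cancel_left]

/-- Every non-central element with trace `s` is a product of two conjugates of a regular semisimple
`x` if the conic has a point. -/
theorem exists_conj_product {x g : SLtwo F} [Fintype F] (hx : IsElliptic x ∨ IsSplit x)
    (hg : g ∉ Subgroup.center (SLtwo F)) {a b : F}
    (h : a ^ 2 - tr x * a + b ^ 2 + tr x * b - tr g * a * b + 1 = 0) :
    ∃ u v : SLtwo F, g = (u * x * u⁻¹) * (v * x * v⁻¹) := by
  obtain ⟨A, B, hA, hB, hAB⟩ := exists_factor_comp h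
  let toG : SLtwo F →* GL (Fin 2) F := Matrix.SpecialLinearGroup.toGL
  have hconj : IsConj (toG (comp (tr g) 1)) (toG g) := by
    refine isConj_GL ?_ ?_ ?_ ?_
    · exact not_isScalarMat (comp_notMem_center _ _)
    · exact not_isScalarMat hg
    · exact tr_comp (tr g) 1
    · exact (comp (tr g) 1).2.trans g.2.symm
  obtain ⟨k, hk⟩ := isConj_iff.1 hconj
  let conjK : SLtwo F → SLtwo F := fun M =>
    ⟨((k * toG M * k⁻¹ : GL (Fin 2) F) : Matrix (Fin 2) (Fin 2) F), by
      have : ((k * toG M * k⁻¹ : GL (Fin 2) F) : Matrix (Fin 2) (Fin 2) F).det =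
          (M : Matrix (Fin 2) (Fin 2) F).det := by
        rw [Units.val_mul, Units.val_mul]
        exact Matrix.det_units_conj k _
      rw [this]; exact M.2⟩
  have hmul : conjK A * conjK B = g := by
    apply Subtype.ext
    show ((k * toG A * k⁻¹ : GL (Fin 2) F) : Matrix (Fin 2) (Fin 2) F) *
      ((k * toG B * k⁻¹ : GL (Fin 2) F) : Matrix (Fin 2) (Fin 2) F) = _
    rw [← Units.val_mul, show k * toG A * k⁻¹ * (k * toG B * k⁻¹) = k * toG (A * B) * k⁻¹ by
      rw [map_mul]; group, hAB, hk]
    rfl
  have htr : ∀ M, tr (conjK M) = tr M := by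
    intro M
    have : ((k * toG M * k⁻¹ : GL (Fin 2) F) : Matrix (Fin 2) (Fin 2) F).trace =
        (M : Matrix (Fin 2) (Fin 2) F).trace := by
      rw [Units.val_mul, Units.val_mul]
      exact Matrix.trace_units_conj k _
    simpa [Matrix.trace_fin_two, tr, conjK] using this
  obtain ⟨u, hu⟩ := isConj_iff.1 (isConj_of_tr_eq hx (hA.symm.trans (htr A).symm))
  obtain ⟨v, hv⟩ := isConj_iff.1 (isConj_of_tr_eq hx (hB.symm.trans (htr B).symm))
  exact ⟨u, v, by rw [hu, hv, hmul]⟩

theorem conic_of_split {x : SLtwo F} (hx : IsSplit x) (s : F) :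
    ∃ a b : F, a ^ 2 - tr x * a + b ^ 2 + tr x * b - s * a * b + 1 = 0 := by
  obtain ⟨l, hl, -⟩ := hx
  exact ⟨l, 0, by linear_combination hl⟩

theorem conic_of_odd [Fintype F] (hodd : ringChar F ≠ 2) {t s : F} (ht : t ≠ 0) (hs : s ≠ 2) :
    ∃ a b : F, a ^ 2 - t * a + b ^ 2 + t * b - s * a * b + 1 = 0 := by
  have h2 : (2 : F) ≠ 0 := Ring.two_ne_zero hodd
  suffices h : ∃ b y : F, y ^ 2 = (s ^ 2 - 4) * b ^ 2 + 2 * t * (s - 2) * b + (t ^ 2 - 4) by
    obtain ⟨b, y, hy⟩ := h
    refine ⟨(t + s * b + y) / 2, b, ?_⟩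
    field_simp
    linear_combination hy
  by_cases hs4 : s ^ 2 - 4 = 0
  · have hlin : 2 * t * (s - 2) ≠ 0 := mul_ne_zero (mul_ne_zero h2 ht) (sub_ne_zero.2 hs)
    refine ⟨-(t ^ 2 - 4) / (2 * t * (s - 2)), 0, ?_⟩
    rw [hs4]
    field_simp
    ring
  · have hcard : Fintype.card F % 2 = 1 := FiniteField.odd_card_of_char_ne_two hodd
    obtain ⟨a, b, hab⟩ := FiniteField.exists_root_sum_quadratic
      (f := (X ^ 2 : F[X]))
      (g := C (-(s ^ 2 - 4)) * X ^ 2 + C (-(2 * t * (s - 2))) * X + C (-(t ^ 2 - 4)))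
      (degree_X_pow 2) (degree_quadratic (neg_ne_zero.2 hs4)) hcard
    refine ⟨b, a, ?_⟩
    simp only [eval_pow, eval_X, eval_add, eval_mul, eval_C] at hab
    linear_combination hab

theorem exists_elliptic_trace [Fintype F] : ∃ t : F, NoRoot t 1 := by
  classical
  by_contra h
  simp only [NoRoot, not_exists, not_forall, not_not] at h
  have hsurj : Function.Surjective (fun x : Fˣ => (x : F) + ((x⁻¹ : Fˣ) : F)) := by
    intro t
    obtain ⟨x, hx⟩ := h t
    have hx0 : x ≠ 0 := by rintro rfl; simp at hx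
    refine ⟨Units.mk0 x hx0, ?_⟩
    simp only [Units.val_mk0, Units.val_inv_eq_inv_val]
    field_simp
    linear_combination hx
  have := Fintype.card_le_of_surjective _ hsurj
  rw [Fintype.card_units] at this
  have := Fintype.card_pos (α := F)
  omega

/-- In a field with at least four elements two conjugacy classes of non-central elements have
products with more than two traces up to sign. -/
theorem exists_trace_avoid [Fintype F] (h4 : 4 ≤ Fintype.card F) {A B : SLtwo F}
    (hA : A ∉ Subgroup.center (SLtwo F)) (hB : B ∉ Subgroup.center (SLtwo F)) (s : F) :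
    ∃ u v : SLtwo F, tr (u * A * u⁻¹ * (v * B * v⁻¹)) ≠ s ∧
      tr (u * A * u⁻¹ * (v * B * v⁻¹)) ≠ -s := by
  classical
  obtain ⟨u, hu⟩ := exists_conj_entry_ne_zero hA
  obtain ⟨v, hv⟩ := exists_conj_entry_ne_zero hB
  set A' := u * A * u⁻¹ with hA'
  set B' := v * B * v⁻¹ with hB'
  let P : F[X] := C (-(A' 1 0 * B' 1 0)) * X ^ 2 +
    C (A' 0 0 * B' 1 0 - A' 1 1 * B' 1 0 + A' 1 0 * (B' 1 1 - B' 0 0)) * X + C (tr (A' * B'))
  have hP : ∀ x : F, P.eval x = tr (A' * (upper x * B' * (upper x)⁻¹)) := by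
    intro x
    simp only [P, tr, mul_00, mul_01, mul_10, mul_11, inv_00, inv_01, inv_10, inv_11,
      upper_00, upper_01, eval_add, eval_mul, eval_C, eval_pow, eval_X]
    simp [upper]
    ring
  have hlead : -(A' 1 0 * B' 1 0) ≠ 0 := neg_ne_zero.2 (mul_ne_zero hu hv)
  by_contra hcon
  simp only [not_exists, not_and_or, not_not] at hcon
  have hval : ∀ x : F, P.eval x = s ∨ P.eval x = -s := by
    intro x
    rw [hP]
    have := hcon u (upper x * v)
    rwa [show upper x * v * B * (upper x * v)⁻¹ = upper x * B' * (upper x)⁻¹ by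
      rw [hB']; group] at this
  have hroots : ∀ z : F, (Finset.univ.filter fun x => P.eval x = z).card ≤ 2 := by
    intro z
    have hdeg : (P - C z).natDegree = 2 := by
      rw [natDegree_sub_C]
      exact natDegree_quadratic hlead
    have hne : P - C z ≠ 0 := fun h0 => by rw [h0] at hdeg; simp at hdeg
    calc (Finset.univ.filter fun x => P.eval x = z).card ≤ (P - C z).roots.toFinset.card := by
          refine Finset.card_le_card fun x hx => ?_
          simp only [Finset.mem_filter, Finset.mem_univ, true_and] at hx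
          simp [hne, hx]
      _ ≤ Multiset.card (P - C z).roots := Multiset.toFinset_card_le _
      _ ≤ (P - C z).natDegree := card_roots' _
      _ = 2 := hdeg
  have hcard : Fintype.card F ≤ (Finset.univ.filter fun x => P.eval x = s).card +
      (Finset.univ.filter fun x => P.eval x = -s).card := by
    rw [← Finset.card_univ]
    refine le_trans (Finset.card_le_card ?_) (Finset.card_union_le _ _)
    intro x _
    simpa using hval x
  have h1 := hroots s
  have h2 := hroots (-s)
  by_cases hch : ringChar F = 2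
  · have : CharP F 2 := ringChar.of_eq hch
    have hle : Fintype.card F ≤ 2 := by
      rw [← Finset.card_univ]
      refine le_trans (Finset.card_le_card ?_) (hroots s)
      intro x _
      have := hval x
      simp only [CharTwo.neg_eq, or_self] at this
      simpa using this
    omega
  · have := FiniteField.odd_card_of_char_ne_two hch
    omega

end Cfsg.Agent.Lib.SL2Products
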